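import Mathlib

/-!
# A non-split form of a three-dimensional Lie algebra over Laurent series
-/

set_option autoImplicit false
universe u v w

namespace Groth.Agent.AbVarAlg22

lemma not_sq_mul_single (k : Type u) [Field k] (a : LaurentSeries k) :
    a * a * HahnSeries.single 1 (1 : k) ≠ 1 := by
  intro h
  have ha : a ≠ 0 := by rintro rfl; simp at h
  have h1 := congrArg HahnSeries.order h
  rw [HahnSeries.order_mul (mul_ne_zero ha ha) (by simp), HahnSeries.order_mul ha ha,
    HahnSeries.order_single one_ne_zero, HahnSeries.order_one] at h1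
  omega

theorem isEmpty_lieEquiv (k : Type u) [Field k]
    (F : Type v) [LieRing F] [LieAlgebra (LaurentSeries k) F]
    (bF : Module.Basis (Fin 3) (LaurentSeries k) F)
    (h01 : ⁅bF 0, bF 1⁆ = bF 2)
    (h02 : ⁅bF 0, bF 2⁆ = (HahnSeries.single 1 (1 : k) : LaurentSeries k) • bF 1)
    (h12 : ⁅bF 1, bF 2⁆ = 0)
    (L : Type w) [LieRing L] [LieAlgebra (LaurentSeries k) L]
    (bL : Module.Basis (Fin 3) (LaurentSeries k) L) (hL01 : ⁅bL 0, bL 1⁆ = bL 1) :
    IsEmpty (L ≃ₗ⁅LaurentSeries k⁆ F) := by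
  refine ⟨fun e => ?_⟩
  set t : LaurentSeries k := HahnSeries.single 1 (1 : k)
  set X := e (bL 0)
  set Y := e (bL 1)
  have hXY : ⁅X, Y⁆ = Y := by
    rw [← LieEquiv.map_lie, hL01]
  set a := bF.repr X 0
  set b := bF.repr X 1
  set c := bF.repr X 2
  set p := bF.repr Y 0
  set q := bF.repr Y 1
  set r := bF.repr Y 2
  have hX : X = a • bF 0 + b • bF 1 + c • bF 2 := by
    rw [← bF.sum_repr X, Fin.sum_univ_three]
  have hY : Y = p • bF 0 + q • bF 1 + r • bF 2 := by
    rw [← bF.sum_repr Y, Fin.sum_univ_three]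
  have h10 : ⁅bF 1, bF 0⁆ = -bF 2 := by rw [← lie_skew, h01]
  have h20 : ⁅bF 2, bF 0⁆ = -(t • bF 1) := by rw [← lie_skew, h02]
  have h21 : ⁅bF 2, bF 1⁆ = 0 := by rw [← lie_skew, h12, neg_zero]
  have hbr : ⁅X, Y⁆ = ((a * r - c * p) * t) • bF 1 + (a * q - b * p) • bF 2 := by
    rw [hX, hY]
    simp only [add_lie, lie_add, smul_lie, lie_smul, lie_self, h01, h02, h12, h10, h20, h21,
      smul_zero, smul_neg, add_zero, zero_add]
    refine bF.ext_elem fun i => ?_
    fin_cases i <;> simp <;> ring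
  have key := hbr.symm.trans hXY
  have e0 := congrArg (fun v => bF.repr v 0) key
  have e1 := congrArg (fun v => bF.repr v 1) key
  have e2 := congrArg (fun v => bF.repr v 2) key
  simp [Finsupp.single_apply] at e0 e1 e2
  have hp : p = 0 := e0.symm
  have hq : q ≠ 0 := by
    intro hq0
    have hr0 : r = 0 := by linear_combination -e2 + a * hq0 - b * hp
    have hY0 : Y = 0 := by rw [hY, hp, hq0, hr0]; simp
    exact bL.ne_zero 1 (e.injective (hY0.trans (map_zero e.toLieHom).symm))
  refine not_sq_mul_single k a (mul_right_cancel₀ hq ?_)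
  show a * a * t * q = 1 * q
  linear_combination (a * t) * e2 + e1 + (a * t * b + c * t) * hp

end Groth.Agent.AbVarAlg22
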