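import Mathlib

/-!
# The quadratic Weil polynomial `x² - p x + p^r`
-/

set_option autoImplicit false

open Polynomial

namespace Groth.Agent.AbVarAlg22

variable (p r : ℕ) [Fact p.Prime]

lemma sq_lt_four_pow (hr : 2 < r) : (p : ℝ) ^ 2 < 4 * (p : ℝ) ^ r := by
  have hp : (1 : ℝ) ≤ p := by exact_mod_cast (Fact.out : p.Prime).one_le
  have h1 : (p : ℝ) ^ 2 ≤ (p : ℝ) ^ r := pow_le_pow_right₀ hp hr.le
  have h2 : (0 : ℝ) < (p : ℝ) ^ r := pow_pos (lt_of_lt_of_le one_pos hp) r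
  linarith

lemma irreducible_weilQuad (hr : 2 < r) :
    Irreducible (X ^ 2 - C (p : ℚ) * X + C ((p : ℚ) ^ r)) := by
  have hdeg : (X ^ 2 - C (p : ℚ) * X + C ((p : ℚ) ^ r)).natDegree = 2 := by compute_degree!
  refine irreducible_of_degree_le_three_of_not_isRoot
    (by rw [hdeg]; norm_num) fun x hx => ?_
  simp only [IsRoot.def, eval_add, eval_sub, eval_pow, eval_X, eval_mul, eval_C] at hx
  have h := congrArg (fun q : ℚ => (q : ℝ)) hx
  push_cast at h
  nlinarith [sq_lt_four_pow p r hr, sq_nonneg (2 * (x : ℝ) - p)]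

lemma norm_root (hr : 2 < r) (π : ℂ) (h : π ^ 2 - (p : ℂ) * π + (p : ℂ) ^ r = 0) :
    ‖π‖ = Real.sqrt ((p : ℝ) ^ r) := by
  have hre := congrArg Complex.re h
  have him := congrArg Complex.im h
  have hc : ((p : ℂ) ^ r).re = (p : ℝ) ^ r ∧ ((p : ℂ) ^ r).im = 0 := by
    rw [show (p : ℂ) ^ r = (((p : ℝ) ^ r : ℝ) : ℂ) by push_cast; ring]
    exact ⟨Complex.ofReal_re _, Complex.ofReal_im _⟩
  simp [pow_two, Complex.mul_re, Complex.mul_im] at hre him
  rw [hc.1] at hre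
  rw [hc.2] at him
  rw [Complex.norm_def, Complex.normSq_apply]
  congr 1
  by_cases hi : π.im = 0
  · exfalso
    rw [hi] at hre
    nlinarith [sq_lt_four_pow p r hr, sq_nonneg (2 * π.re - p)]
  · have h2 : 2 * π.re = p := by
      have : π.im * (2 * π.re - p) = 0 := by linarith
      rcases mul_eq_zero.mp this with h' | h'
      · exact absurd h' hi
      · linarith
    nlinarith

lemma exists_padic_roots (hr : 2 < r) :
    ∃ a b : ℚ_[p], a ≠ b ∧ a ^ 2 - (p : ℚ_[p]) * a + (p : ℚ_[p]) ^ r = 0 ∧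
      b ^ 2 - (p : ℚ_[p]) * b + (p : ℚ_[p]) ^ r = 0 ∧ a.valuation = 1 ∧
      b.valuation = (r : ℤ) - 1 := by
  obtain ⟨s, rfl⟩ : ∃ s, r = s + 3 := ⟨r - 3, by omega⟩
  let c : ℤ_[p] := (p : ℤ_[p]) ^ (s + 1)
  let F : Polynomial ℤ_[p] := X ^ 2 - X + C c
  have hc : ‖c‖ < 1 := by
    simp only [c, norm_pow, PadicInt.norm_p]
    exact pow_lt_one₀ (by positivity)
      (inv_lt_one_of_one_lt₀ (by exact_mod_cast (Fact.out : p.Prime).one_lt)) (by omega)
  have hF1 : F.aeval (1 : ℤ_[p]) = c := by simp [F]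
  have hD1 : F.derivative.aeval (1 : ℤ_[p]) = 1 := by
    norm_num [F]
  obtain ⟨z, hz, hz1, -, -⟩ := hensels_lemma (F := F) (a := (1 : ℤ_[p])) (by
    rw [hF1, hD1]; simpa using hc)
  rw [hD1, norm_one] at hz1
  have hzeq : z ^ 2 - z + c = 0 := by simpa [F] using hz
  have hzu : ‖z‖ = 1 := by
    have h3 := PadicInt.norm_add_eq_max_of_ne (q := z - 1) (r := (1 : ℤ_[p]))
      (by rw [norm_one]; exact hz1.ne)
    rw [sub_add_cancel, norm_one, max_eq_right hz1.le] at h3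
    exact h3
  have hz0 : z ≠ 0 := fun h => by simp [h] at hzu
  have hzq0 : (z : ℚ_[p]) ≠ 0 := by simpa using hz0
  have hp0 : (p : ℚ_[p]) ≠ 0 := by exact_mod_cast (Fact.out : p.Prime).ne_zero
  have hzq : (z : ℚ_[p]) ^ 2 - z + (p : ℚ_[p]) ^ (s + 1) = 0 := by
    have := congrArg (fun w : ℤ_[p] => (w : ℚ_[p])) hzeq
    simpa [c] using this
  have hzv : (z : ℚ_[p]).valuation = 0 := by
    rw [PadicInt.valuation_coe]
    obtain ⟨u, hu⟩ := PadicInt.isUnit_iff.mpr hzu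
    rw [← hu]
    have h := congrArg PadicInt.valuation (Units.mul_inv u)
    rw [PadicInt.valuation_mul u.ne_zero (Units.ne_zero _), PadicInt.valuation_one] at h
    simp only [Nat.cast_eq_zero]
    omega
  let a : ℚ_[p] := p * z
  let b : ℚ_[p] := (p : ℚ_[p]) ^ (s + 2) / z
  have hva : a.valuation = 1 := by
    simp only [a, Padic.valuation_mul hp0 hzq0, Padic.valuation_p, hzv, add_zero]
  have hvb : b.valuation = ((s + 3 : ℕ) : ℤ) - 1 := by
    simp only [b, div_eq_mul_inv, Padic.valuation_mul (pow_ne_zero _ hp0) (inv_ne_zero hzq0),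
      Padic.valuation_inv, Padic.valuation_pow, Padic.valuation_p, hzv]
    push_cast; ring
  refine ⟨a, b, fun h => ?_, ?_, ?_, hva, hvb⟩
  · rw [h, hvb] at hva
    push_cast at hva
    omega
  · simp only [a]
    linear_combination (p : ℚ_[p]) ^ 2 * hzq
  · simp only [b]
    field_simp
    linear_combination (p : ℚ_[p]) ^ (s + 3) * hzq

end Groth.Agent.AbVarAlg22
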